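import Groth.Agent.CAlgH.AdicSmoothRegularField
import Groth.Agent.CAlgH.AdicSmoothCotangent
import Groth.Agent.VarietyLib.SmoothStalk
import Groth.Agent.CurvesLib24.Basic
import Groth.Agent.Synt15.FieldScheme
import Groth.Prelude.Def_CurvBase
import Groth.Agent.VarietyLib.GeomReducedPt

/-!
# Regular closed points with separable residue field are smooth

Three lemmas copied from `NodeLib7.ClosedSub` to avoid its imports.
-/

set_option autoImplicit false
set_option backward.isDefEq.respectTransparency false
set_option linter.style.haveILetI false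

universe u

open CategoryTheory CategoryTheory.Limits AlgebraicGeometry IsLocalRing

attribute [local instance] Curv2.stalkAlgebra

namespace Groth.Agent.FlatMorCurveSmooth

open Groth.Agent

theorem formallySmooth_of_regular_of_residueField (K S : Type u) [Field K] [CommRing S]
    [Algebra K S] [Algebra.EssFiniteType K S] [IsRegularLocalRing S]
    [Algebra.FormallySmooth K (ResidueField S)] : Algebra.FormallySmooth K S := by
  let B := Algebra.EssFiniteType.subalgebra K S
  let q : Ideal B := (maximalIdeal S).comap (algebraMap B S)
  haveI : q.IsPrime := Ideal.IsPrime.comap _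
  have hM : Algebra.EssFiniteType.submonoid K S = q.primeCompl := by
    ext b
    show IsUnit (algebraMap B S b) ↔ algebraMap B S b ∉ maximalIdeal S
    rw [IsLocalRing.notMem_maximalIdeal]
  haveI : IsLocalization.AtPrime S q := by
    rw [IsLocalization.AtPrime, ← hM]; infer_instance
  let e₀ : Localization.AtPrime q ≃ₐ[B] S := IsLocalization.algEquiv q.primeCompl _ _
  let e : Localization.AtPrime q ≃ₐ[K] S := e₀.restrictScalars K
  haveI : IsRegularLocalRing (Localization.AtPrime q) := .of_ringEquiv e.symm.toRingEquiv
  let er : ResidueField (Localization.AtPrime q) ≃ₐ[K] ResidueField S :=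
    AlgEquiv.ofRingEquiv (f := ResidueField.mapEquiv e.toRingEquiv) fun r => by
      show residue S (e (algebraMap K _ r)) = residue S (algebraMap K S r)
      rw [e.commutes]
  haveI : Algebra.FormallySmooth K (ResidueField (Localization.AtPrime q)) := .of_equiv er.symm
  haveI := CAlgH.AdicSmooth.formallySmooth_localization (A := K) q CAlgH.AdicSmooth.of_regular_formallySmooth_residueField
  exact .of_equiv e

variable (k : Type u) [Field k]

theorem formallySmooth_stalkMap {Y : Scheme.{u}} [Y.Over (Spec (CommRingCat.of k))] (y : Y)
    [Algebra.FormallySmooth k (Y.presheaf.stalk y)] :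
    ((Y ↘ Spec (CommRingCat.of k)).stalkMap y).hom.FormallySmooth := by
  let q := Y ↘ Spec (CommRingCat.of k)
  let z : PrimeSpectrum k := q.base y
  let α : CommRingCat.of k ⟶ (Spec (CommRingCat.of k)).presheaf.stalk (q.base y) :=
    StructureSheaf.toStalk (CommRingCat.of k) (q.base y)
  have hα : α ≫ q.stalkMap y = CommRingCat.ofHom (algebraMap k (Y.presheaf.stalk y)) := by
    refine Spec.map_injective ?_
    rw [Spec.map_comp, VarietyLib.specMap_stalkAlgebra]
    refine Eq.trans ?_ (Scheme.SpecMap_stalkMap_fromSpecStalk q (x := y))
    exact congrArg (Spec.map (q.stalkMap y) ≫ ·) (Spec.fromSpecStalk_eq' (R := CommRingCat.of k) (x := q.base y)).symm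
  haveI : IsIso α := by
    rw [ConcreteCategory.isIso_iff_bijective]
    letI : Algebra k ((Spec (CommRingCat.of k)).presheaf.stalk (q.base y)) := α.hom.toAlgebra
    haveI : IsLocalization.AtPrime ((Spec (CommRingCat.of k)).presheaf.stalk (q.base y)) z.asIdeal :=
      StructureSheaf.IsLocalization.to_stalk _ z
    exact IsField.localization_map_bijective (M := z.asIdeal.primeCompl) (fun h0 => h0 z.asIdeal.zero_mem)
      (Field.toIsField k)
  have h2 : (α ≫ q.stalkMap y).hom.FormallySmooth := by
    rw [hα]; exact RingHom.formallySmooth_algebraMap.2 inferInstance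
  exact (RingHom.FormallySmooth.respectsIso.cancel_left_isIso α (q.stalkMap y)).1 h2

theorem not_isField_stalk {Y : Scheme.{u}} (hY : ∀ Z ∈ irreducibleComponents (Y : Type u), topologicalKrullDim Z = 1)
    {y : Y} (hy : IsClosed ({y} : Set Y)) : ¬ IsField (Y.presheaf.stalk y) := by
  intro hF
  have hgen : ∀ η : Y, η ⤳ y → η = y := fun η hη => by
    obtain ⟨P, hP⟩ : η ∈ Set.range (Y.fromSpecStalk y) := by rw [Scheme.range_fromSpecStalk]; exact hη
    letI := hF.toField
    haveI : Subsingleton ↥(Spec (Y.presheaf.stalk y)) :=
      inferInstanceAs (Subsingleton (PrimeSpectrum (Y.presheaf.stalk y)))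
    rw [← hP, Subsingleton.elim P (IsLocalRing.closedPoint _), Scheme.fromSpecStalk_closedPoint]
  have hC := irreducibleComponent_mem_irreducibleComponents y
  obtain ⟨η, hη⟩ := QuasiSober.sober (isIrreducible_irreducibleComponent (x := y)) isClosed_irreducibleComponent
  have hηy : η = y := hgen η (hη.specializes mem_irreducibleComponent)
  have hZ : irreducibleComponent y = {y} := by rw [← hη.def, hηy]; exact hy.closure_eq
  have h1 := hY _ hC
  haveI : Subsingleton ↥(irreducibleComponent y) := by rw [hZ]; infer_instance
  haveI : Subsingleton (TopologicalSpace.IrreducibleCloseds ↥(irreducibleComponent y)) := ⟨fun P Q => by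
    apply SetLike.coe_injective
    exact (Set.subsingleton_of_subsingleton.eq_singleton_of_mem P.isIrreducible.nonempty.choose_spec).trans
      ((Set.subsingleton_of_subsingleton.eq_singleton_of_mem Q.isIrreducible.nonempty.choose_spec).trans
        (by congr 1; exact Subsingleton.elim _ _)).symm⟩
  have h2 : topologicalKrullDim ↥(irreducibleComponent y) ≤ 0 := Order.krullDim_nonpos_of_subsingleton
  rw [h1] at h2
  exact absurd h2 (by norm_num)

end Groth.Agent.FlatMorCurveSmooth
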